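import Groth.Agent.TFCurv.K693.Gen
import Groth.Agent.BunMod.K325.GeomFib
import Groth.Agent.ShStab.K849.HomFib
import Groth.Agent.S19960
import Groth.Agent.S1551
import Groth.Agent.Fdesc.GeomAlgClosed

/-!
# From one semistable simple fibre and a stable generic fibre to a stable fibre (helper693, nodes N5 and N7 of S16633)

`X` is a smooth projective curve over the algebraically closed field `k`, `q : T ⟶ Spec k` integral and of finite
type, `F` a finite locally free module of rank `r ≥ 1` on `X ×_k T`.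

* `Setup`: the common Hilbert polynomial of the fibres;
* `ss_gen`: if the fibre at one `k`-point is semistable, so is the generic fibre;
* `simple_gen`: if the fibre at one `k`-point is simple, so is the generic fibre;
* `exists_stable`: if moreover the generic fibre is stable, there is a `k`-point with stable fibre.
-/

set_option autoImplicit false
universe u
open CategoryTheory CategoryTheory.Limits AlgebraicGeometry Polynomial

namespace K693.TF

open K707.Base K707.Deg K707.Slope K707.Semi K707.TensL Groth.Agent.VarietyA.DegRank StabCat K846 K846.CurveSS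
open K849.PolyOrd BadPoly FieldPt OpenMain OpenFib Localize OpenPt

/-- The inclusion of the fibre at a `k`-point. -/
noncomputable def ip {k : Type u} [Field k] (X : Scheme.{u}) [X.Over (Spec (CommRingCat.of k))] {T : Scheme.{u}}
    (q : T ⟶ Spec (CommRingCat.of k)) (c : Spec (CommRingCat.of k) ⟶ T) (hc : c ≫ q = 𝟙 _) :
    X ⟶ pullback (X ↘ Spec (CommRingCat.of k)) q :=
  pullback.lift (𝟙 X) ((X ↘ Spec (CommRingCat.of k)) ≫ c)
    (by rw [Category.id_comp, Category.assoc, hc, Category.comp_id])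

theorem isPullback_ip {k : Type u} [Field k] (X : Scheme.{u}) [X.Over (Spec (CommRingCat.of k))] {T : Scheme.{u}}
    (q : T ⟶ Spec (CommRingCat.of k)) (c : Spec (CommRingCat.of k) ⟶ T) (hc : c ≫ q = 𝟙 _) :
    IsPullback (ip X q c hc) (X ↘ Spec (CommRingCat.of k)) (pullback.snd (X ↘ Spec (CommRingCat.of k)) q) c := by
  have h1 : IsPullback (ip X q c hc ≫ pullback.fst (X ↘ Spec (CommRingCat.of k)) q)
      (X ↘ Spec (CommRingCat.of k)) (X ↘ Spec (CommRingCat.of k)) (c ≫ q) := by
    rw [ip, pullback.lift_fst, hc]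
    exact IsPullback.of_horiz_isIso ⟨by simp⟩
  exact IsPullback.of_right h1 (pullback.lift_snd _ _ _) (IsPullback.of_hasPullback _ _)

section

variable {k : Type u} [Field k] [IsAlgClosed k] {X : Scheme.{u}} [X.Over (Spec (CommRingCat.of k))] [IsIntegral X]
  [IsProper (X ↘ Spec (CommRingCat.of k))] [Smooth (X ↘ Spec (CommRingCat.of k))]
  (hdim : topologicalKrullDim X = 1) {T : Scheme.{u}} (q : T ⟶ Spec (CommRingCat.of k))

include hdim

omit [IsIntegral X] in
/-- Fibres of the family of curves. -/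
theorem nc [ConnectedSpace X] {K : Type u} [Field K] (t : Spec (CommRingCat.of K) ⟶ T) {Y : Scheme.{u}}
    {p : Y ⟶ pullback (X ↘ Spec (CommRingCat.of k)) q} {y : Y ⟶ Spec (CommRingCat.of K)}
    (H : IsPullback p y (pullback.snd (X ↘ Spec (CommRingCat.of k)) q) t) : K325.GeomFib.NC y := by
  have hgc : GeometricallyConnected (X ↘ Spec (CommRingCat.of k)) :=
    Groth.Agent.Fdesc.GeomAlgClosed.geometricallyConnected_of_connectedSpace (X ↘ Spec (CommRingCat.of k))
  exact K325.GeomFib.NC.of_isPullback hdim (H.paste_horiz (IsPullback.of_hasPullback _ _))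

/-- The Hilbert polynomial of a field-valued fibre. -/
theorem hilb_pt {r : ℕ} (hr : 1 ≤ r) {F : (pullback (X ↘ Spec (CommRingCat.of k)) q).Modules}
    (hF : FlatMod.IsFinLocFreeOfRank r F) {L : (pullback (X ↘ Spec (CommRingCat.of k)) q).Modules}
    (hL : FAmple (pullback.snd (X ↘ Spec (CommRingCat.of k)) q) L) {K : Type u} [Field K]
    (t : Spec (CommRingCat.of K) ⟶ T) {Y : Scheme.{u}} [Y.Over (Spec (CommRingCat.of K))]
    (p : Y ⟶ pullback (X ↘ Spec (CommRingCat.of k)) q)
    (H : IsPullback p (Y ↘ Spec (CommRingCat.of K)) (pullback.snd (X ↘ Spec (CommRingCat.of k)) q) t) :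
    ∃ P : ℚ[X], ShStab.IsHilbPoly K Y ((Scheme.Modules.pullback p).obj L) ((Scheme.Modules.pullback p).obj F) P ∧
      P.natDegree ≤ 1 ∧ 0 < alpha 1 P := by
  obtain ⟨h1, h2, h3'⟩ := nc hdim q _ H
  have h3 : Crv K Y := h3'
  have h2' : IsProper (Y ↘ Spec (CommRingCat.of K)) := h2
  have hLη : CohB1.IsAmple ((Scheme.Modules.pullback p).obj L) := hL _ _ _ _ _ H
  have hFη : FlatMod.IsFinLocFreeOfRank r ((Scheme.Modules.pullback p).obj F) :=
    Groth.Agent.PerfB.FibreConc.isFinLocFreeOfRank_pullback _ hF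
  refine ⟨_, isHilbPoly K h3.dim hLη.1 (isCoh_of_rank hFη), natDegree_hpol _ _ _, ?_⟩
  rw [alpha_hpol, rk_of_rank hFη]
  have h4 := dg_pos K h3.dim hLη
  have h5 : (0 : ℚ) < r := by exact_mod_cast hr
  have h6 : (0 : ℚ) < dg K ((Scheme.Modules.pullback p).obj L) := by exact_mod_cast h4
  exact mul_pos h5 h6

omit hdim in
/-- The data with a common Hilbert polynomial. -/
structure Setup (F : (pullback (X ↘ Spec (CommRingCat.of k)) q).Modules) where
  /-- the polarisation -/
  L₀ : X.Modules
  /-- ample -/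
  hL₀ : CohB1.IsAmple L₀
  /-- the Hilbert polynomial -/
  P : ℚ[X]
  /-- the fibres have this Hilbert polynomial -/
  hP : ∀ s : T, @ShStab.IsHilbPoly (T.residueField s) _ ((pullback.snd (X ↘ Spec (CommRingCat.of k)) q).fiber s)
    (fibOver (pullback.snd (X ↘ Spec (CommRingCat.of k)) q) s)
    (CohIII.fiberMod (pullback.snd (X ↘ Spec (CommRingCat.of k)) q)
      ((Scheme.Modules.pullback (pullback.fst (X ↘ Spec (CommRingCat.of k)) q)).obj L₀) s)
    (CohIII.fiberMod (pullback.snd (X ↘ Spec (CommRingCat.of k)) q) F s) P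
  hd : P.natDegree ≤ 1
  h0 : 0 < alpha 1 P

theorem exists_setup [LocallyOfFiniteType q] [IsIntegral T] {r : ℕ} (hr : 1 ≤ r)
    {F : (pullback (X ↘ Spec (CommRingCat.of k)) q).Modules} (hF : FlatMod.IsFinLocFreeOfRank r F) :
    Nonempty (Setup q F) := by
  have : IsNoetherian X := Ascent.isNoetherian_of_proper k X
  have : X.IsSeparated := by
    have h1 : IsSeparated (terminal.from X) := by
      rw [← terminal.comp_from (X ↘ Spec (CommRingCat.of k))]
      infer_instance
    exact ⟨h1⟩
  obtain ⟨L₀, hL₀⟩ := Groth.Agent.S1551.result X hdim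
  let f := pullback.snd (X ↘ Spec (CommRingCat.of k)) q
  let L := (Scheme.Modules.pullback (pullback.fst (X ↘ Spec (CommRingCat.of k)) q)).obj L₀
  have hL : RelAmple.IsRelAmple f L := RelAmp.isRelAmple_pullback (X ↘ Spec (CommRingCat.of k)) q hL₀
  have hLi := RelAmp.isInvertible hL
  have hFc := isCoh_of_rank hF
  have hnT : IsLocallyNoetherian T := LocallyOfFiniteType.isLocallyNoetherian q
  have hnX : IsLocallyNoetherian (pullback (X ↘ Spec (CommRingCat.of k)) q) :=
    LocallyOfFiniteType.isLocallyNoetherian f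
  have hflF : FlatMod.IsFlatOver f F := SSOpen.isFlatOver_of_rank f hF
  let η := genericPoint T
  let := fibOver f η
  obtain ⟨P, key, hd, h0⟩ := hilb_pt hdim q hr hF (RelAmp.fAmple hL) (K := T.residueField η) _ _
    (isPullback_fiber f η)
  refine ⟨⟨L₀, hL₀, P, fun s => ?_, hd, h0⟩⟩
  let := fibOver f s
  refine (Twist.isHilbPoly_of_specializes (K := T.residueField η) (K₂ := T.residueField s) f
    (T.fromSpecResidueField η) (IsLocalRing.closedPoint _) (f.fiberι η) (isPullback_fiber f η)
    (T.fromSpecResidueField s) (IsLocalRing.closedPoint _) (f.fiberι s) (isPullback_fiber f s) ?_ hLi hFc hflF).1 key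
  have e1 : T.fromSpecResidueField η (IsLocalRing.closedPoint (T.residueField η)) = η :=
    Scheme.fromSpecResidueField_apply η _
  rw [e1]
  exact genericPoint_specializes _

variable {r : ℕ} (hr : 1 ≤ r) {F : (pullback (X ↘ Spec (CommRingCat.of k)) q).Modules}
  (hF : FlatMod.IsFinLocFreeOfRank r F) (D : Setup q F)

/-- The polarisation on the family. -/
noncomputable abbrev Setup.L {q : T ⟶ Spec (CommRingCat.of k)} {F : (pullback (X ↘ Spec (CommRingCat.of k)) q).Modules}
    (D : Setup q F) : (pullback (X ↘ Spec (CommRingCat.of k)) q).Modules :=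
  (Scheme.Modules.pullback (pullback.fst (X ↘ Spec (CommRingCat.of k)) q)).obj D.L₀

omit [IsAlgClosed k] [IsIntegral X] [Smooth (X ↘ Spec (CommRingCat.of k))] hdim in
theorem Setup.hL : RelAmple.IsRelAmple (pullback.snd (X ↘ Spec (CommRingCat.of k)) q) D.L :=
  RelAmp.isRelAmple_pullback (X ↘ Spec (CommRingCat.of k)) q D.hL₀

section pt

variable {K : Type u} [Field K] (t : Spec (CommRingCat.of K) ⟶ T) {Y : Scheme.{u}}
  [Y.Over (Spec (CommRingCat.of K))] (p : Y ⟶ pullback (X ↘ Spec (CommRingCat.of k)) q)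
  (H : IsPullback p (Y ↘ Spec (CommRingCat.of K)) (pullback.snd (X ↘ Spec (CommRingCat.of k)) q) t)

include hr hF H

/-- Slope-semistability of a field-valued fibre. -/
theorem pt_ss : letI := (nc hdim q _ H).int
    SS K ((Scheme.Modules.pullback p).obj F) ↔
    ShStab.IsSemistable K Y ((Scheme.Modules.pullback p).obj D.L) ((Scheme.Modules.pullback p).obj F) 1 := by
  obtain ⟨h1, h2, h3'⟩ := nc hdim q _ H
  have h3 : Crv K Y := h3'
  have h2' : IsProper (Y ↘ Spec (CommRingCat.of K)) := h2
  have hL := RelAmp.fAmple D.hL K t Y p _ H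
  have hFr : FlatMod.IsFinLocFreeOfRank r ((Scheme.Modules.pullback p).obj F) :=
    Groth.Agent.PerfB.FibreConc.isFinLocFreeOfRank_pullback _ hF
  rw [CurveSS.isSemistable_iff h3 hL hr hFr, ← ss_iff h3 hFr]

variable [IsLocallyNoetherian T]

/-- Slope-stability of a field-valued fibre. -/
theorem pt_st : letI := (nc hdim q _ H).int
    St K ((Scheme.Modules.pullback p).obj F) ↔
    ¬ HasQuot K (Y ↘ Spec (CommRingCat.of K)) ((Scheme.Modules.pullback p).obj D.L)
      ((Scheme.Modules.pullback p).obj F) (fun Q => Bst 1 D.P (D.P - Q)) := by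
  obtain ⟨h1, h2, h3'⟩ := nc hdim q _ H
  have h3 : Crv K Y := h3'
  have h2' : IsProper (Y ↘ Spec (CommRingCat.of K)) := h2
  have hL := RelAmp.fAmple D.hL K t Y p _ H
  have hFr : FlatMod.IsFinLocFreeOfRank r ((Scheme.Modules.pullback p).obj F) :=
    Groth.Agent.PerfB.FibreConc.isFinLocFreeOfRank_pullback _ hF
  have hPY : ShStab.IsHilbPoly K Y ((Scheme.Modules.pullback p).obj D.L) ((Scheme.Modules.pullback p).obj F) D.P :=
    hilb_at _ (RelAmp.isInvertible D.hL) (isCoh_of_rank hF) _ (D.hP _) K t (IsLocalRing.closedPoint K) rfl Y p _ H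
  rw [← isStable_iff_hasQuot hL (isCoh_of_rank hFr) hPY D.hd D.h0,
    isStable_iff h3 hL (isFinLocFree_of_rank hFr) (by rw [rk_of_rank hFr]; omega)]

end pt

variable [LocallyOfFiniteType q] [IsIntegral T] [CompactSpace T]

omit [IsAlgClosed k] [IsIntegral X] [Smooth (X ↘ Spec (CommRingCat.of k))] hdim in
/-- Open nonempty subsets contain the generic point. -/
theorem gen_mem {T : Scheme.{u}} [IsIntegral T] {U : Set T} (hU : IsOpen U) {x : T} (hx : x ∈ U) :
    genericPoint T ∈ U :=
  (genericPoint_specializes x).mem_open hU hx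

include hr hF

/-- If one field-valued fibre is semistable, so is the generic fibre. -/
theorem ss_gen {K : Type u} [Field K] (t : Spec (CommRingCat.of K) ⟶ T) {Y : Scheme.{u}}
    [Y.Over (Spec (CommRingCat.of K))] (p : Y ⟶ pullback (X ↘ Spec (CommRingCat.of k)) q)
    (H : IsPullback p (Y ↘ Spec (CommRingCat.of K)) (pullback.snd (X ↘ Spec (CommRingCat.of k)) q) t)
    (hss : letI := (nc hdim q _ H).int
      SS K ((Scheme.Modules.pullback p).obj F)) :
    letI := fibOver (pullback.snd (X ↘ Spec (CommRingCat.of k)) q) (genericPoint T)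
    letI := (nc hdim q _ (isPullback_fiber (pullback.snd (X ↘ Spec (CommRingCat.of k)) q) (genericPoint T))).int
    SS (T.residueField (genericPoint T))
      (CohIII.fiberMod (pullback.snd (X ↘ Spec (CommRingCat.of k)) q) F (genericPoint T)) := by
  have : IsLocallyNoetherian T := LocallyOfFiniteType.isLocallyNoetherian q
  have : IsNoetherian T := {}
  obtain ⟨D⟩ := exists_setup hdim q hr hF
  let := fibOver (pullback.snd (X ↘ Spec (CommRingCat.of k)) q) (genericPoint T)
  have h1 := OpenPt.isOpen_semistable (pullback.snd (X ↘ Spec (CommRingCat.of k)) q) D.hL (isCoh_of_rank hF) ⊤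
    (fun s _ => D.hP s) D.hd D.h0
  have h2 := (pt_ss hdim q hr hF D t p H).1 hss
  have h3 := (SSPt.isSemistable_pt_iff (pullback.snd (X ↘ Spec (CommRingCat.of k)) q) (RelAmp.isInvertible D.hL)
    (RelAmp.fAmple D.hL) (isCoh_of_rank hF) (t (IsLocalRing.closedPoint K)) (D.hP _) D.hd D.h0 t
    (IsLocalRing.closedPoint K) rfl p H).1 h2
  have h4 := gen_mem h1 (x := t (IsLocalRing.closedPoint K)) ⟨trivial, h3⟩
  exact (pt_ss (K := T.residueField (genericPoint T)) hdim q hr hF D (T.fromSpecResidueField (genericPoint T)) _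
    (isPullback_fiber (pullback.snd (X ↘ Spec (CommRingCat.of k)) q) (genericPoint T))).2 h4.2

omit [IsAlgClosed k] [IsIntegral X] [IsProper (X ↘ Spec (CommRingCat.of k))] [Smooth (X ↘ Spec (CommRingCat.of k))]
  [LocallyOfFiniteType q] [IsIntegral T] [CompactSpace T] hdim hr hF in
theorem surj_of_section {κ : Type u} [Field κ] (φ : κ →+* k) (τ : Spec (CommRingCat.of κ) ⟶ T)
    (h : (Spec.map (CommRingCat.ofHom φ) ≫ τ) ≫ q = 𝟙 _) : Function.Surjective φ := by
  have h1 : Spec.map (Spec.preimage (τ ≫ q) ≫ CommRingCat.ofHom φ) = Spec.map (𝟙 _) := by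
    rw [Spec.map_comp, Spec.map_preimage, ← Category.assoc, h, Spec.map_id]
  have h2 := Spec.map_injective h1
  intro x
  refine ⟨Spec.preimage (τ ≫ q) x, ?_⟩
  have h3 := congr($h2 x)
  exact h3

omit [IsAlgClosed k] [IsIntegral X] [IsProper (X ↘ Spec (CommRingCat.of k))] [Smooth (X ↘ Spec (CommRingCat.of k))]
  [LocallyOfFiniteType q] [IsIntegral T] [CompactSpace T] hdim hr hF in
/-- The residue field at a `k`-point. -/
theorem exists_residue (c : Spec (CommRingCat.of k) ⟶ T) (hc : c ≫ q = 𝟙 _) {s : T}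
    (hs : c (IsLocalRing.closedPoint k) = s) :
    ∃ φ : T.residueField s →+* k, Function.Surjective φ ∧
      c = Spec.map (CommRingCat.ofHom φ) ≫ T.fromSpecResidueField s := by
  obtain ⟨a, ha⟩ := exists_algebra c (IsLocalRing.closedPoint k) hs
  refine ⟨algebraMap (T.residueField s) k, ?_, ha⟩
  exact surj_of_section q (κ := T.residueField s) (algebraMap (T.residueField s) k) (T.fromSpecResidueField s)
    ((congrArg (· ≫ q) ha).symm.trans hc)

omit [IsAlgClosed k] [IsIntegral X] [IsProper (X ↘ Spec (CommRingCat.of k))] [Smooth (X ↘ Spec (CommRingCat.of k))]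
  [LocallyOfFiniteType q] [IsIntegral T] [CompactSpace T] hdim hr hF in
/-- Simplicity at a `k`-point, over the residue field. -/
theorem simple_residue (c : Spec (CommRingCat.of k) ⟶ T) (hc : c ≫ q = 𝟙 _)
    (h : Simple k ((Scheme.Modules.pullback (ip X q c hc)).obj F)) {s : T}
    (hs : c (IsLocalRing.closedPoint k) = s) :
    letI := fibOver (pullback.snd (X ↘ Spec (CommRingCat.of k)) q) s
    Simple (T.residueField s) (CohIII.fiberMod (pullback.snd (X ↘ Spec (CommRingCat.of k)) q) F s) := by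
  obtain ⟨φ, hφ, ha⟩ := exists_residue q c hc hs
  let := fibOver (pullback.snd (X ↘ Spec (CommRingCat.of k)) q) s
  let _ : Algebra (T.residueField s) k := φ.toAlgebra
  have H : IsPullback (ip X q c hc) (X ↘ Spec (CommRingCat.of k)) (pullback.snd (X ↘ Spec (CommRingCat.of k)) q)
      (Spec.map (CommRingCat.ofHom φ) ≫ T.fromSpecResidueField s) := by
    rw [← ha]
    exact isPullback_ip X q c hc
  obtain ⟨g, hg, Hg⟩ := exists_square (K := T.residueField s) (K' := k) _
    (isPullback_fiber (pullback.snd (X ↘ Spec (CommRingCat.of k)) q) s) H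
  refine Simple.of_isPullback (k := T.residueField s) (K := k) φ hφ g Hg ?_
  exact h.of_iso ((Scheme.Modules.pullbackCongr hg.symm).app F ≪≫ ((Scheme.Modules.pullbackComp g _).app F).symm)

omit [CompactSpace T] in
/-- If the fibre at a `k`-point is simple, so is the generic fibre. -/
theorem simple_gen (c : Spec (CommRingCat.of k) ⟶ T) (hc : c ≫ q = 𝟙 _)
    (h : Simple k ((Scheme.Modules.pullback (ip X q c hc)).obj F)) :
    letI := fibOver (pullback.snd (X ↘ Spec (CommRingCat.of k)) q) (genericPoint T)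
    Simple (T.residueField (genericPoint T))
      (CohIII.fiberMod (pullback.snd (X ↘ Spec (CommRingCat.of k)) q) F (genericPoint T)) := by
  have : IsLocallyNoetherian T := LocallyOfFiniteType.isLocallyNoetherian q
  obtain ⟨D⟩ := exists_setup hdim q hr hF
  obtain ⟨s₀, hs⟩ : ∃ s : T, c (IsLocalRing.closedPoint k) = s := ⟨_, rfl⟩
  have hs₀ := simple_residue q c hc h hs
  have hFc := isCoh_of_rank hF
  have hfl : FlatMod.IsFlatOver (pullback.snd (X ↘ Spec (CommRingCat.of k)) q) F :=
    SSOpen.isFlatOver_of_rank _ hF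
  have hz : ∀ s : T, ¬ IsZero (CohIII.fiberMod (pullback.snd (X ↘ Spec (CommRingCat.of k)) q) F s) := by
    intro s hz
    let := fibOver (pullback.snd (X ↘ Spec (CommRingCat.of k)) q) s
    obtain ⟨h1, -, -⟩ := nc hdim q _ (isPullback_fiber (pullback.snd (X ↘ Spec (CommRingCat.of k)) q) s)
    have hFr : FlatMod.IsFinLocFreeOfRank r (CohIII.fiberMod (pullback.snd (X ↘ Spec (CommRingCat.of k)) q) F s) :=
      Groth.Agent.PerfB.FibreConc.isFinLocFreeOfRank_pullback _ hF
    have h2 := rk_of_rank hFr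
    rw [rk_of_isZero hz] at h2
    omega
  obtain ⟨V, hV, hsV⟩ : ∃ V : T.Opens, IsAffineOpen V ∧ s₀ ∈ V := by
    obtain ⟨V, hV, hsV, -⟩ := TopologicalSpace.Opens.isBasis_iff_nbhd.1 T.isBasis_affineOpens
      (TopologicalSpace.Opens.mem_top s₀)
    exact ⟨V, hV, hsV⟩
  have hA : IsNoetherianRing Γ(T, V) := IsLocallyNoetherian.component_noetherian ⟨V, hV⟩
  let j : Spec (CommRingCat.of Γ(T, V)) ⟶ T := hV.fromSpec
  have hj : IsOpenImmersion j := inferInstanceAs (IsOpenImmersion hV.fromSpec)
  obtain ⟨n, hn, hn'⟩ := K849.HomFib.exists_fun (pullback.snd (X ↘ Spec (CommRingCat.of k)) q) j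
    (Groth.Agent.S19960.isAmple_comp _ q j D.hL₀) F F hFc hFc hfl
  obtain ⟨y₀, hy₀⟩ : s₀ ∈ Set.range j := by
    rw [hV.range_fromSpec]
    exact hsV
  have hy : n y₀ ≤ 1 := by
    refine (K849.HomFib.simple_iff' _ F (j y₀) (n y₀) (hn' y₀) (hz _)).1 ?_
    rw [hy₀]
    intro φ
    obtain ⟨a, rfl⟩ := hs₀ φ
    exact ⟨a, fun V x => rfl⟩
  obtain ⟨y₁, hy₁, hy₁'⟩ : genericPoint T ∈ j '' {y | n y ≤ 1} :=
    gen_mem (j.isOpenEmbedding.isOpenMap _ (hn 1)) ⟨y₀, hy, rfl⟩
  have h3 := (K849.HomFib.simple_iff' _ F (j y₁) (n y₁) (hn' y₁) (hz _)).2 hy₁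
  rw [hy₁'] at h3
  intro φ
  obtain ⟨a, ha⟩ := h3 φ
  refine ⟨a, Scheme.Modules.hom_ext _ _ fun U => ?_⟩
  ext x
  exact ha U x

/-- **From the generic fibre to a closed fibre.** If the fibre at one `k`-point is semistable and simple, and the
generic fibre is stable as soon as it is semistable, there is a `k`-point with stable fibre. -/
theorem exists_stable (c₀ : Spec (CommRingCat.of k) ⟶ T) (hc₀ : c₀ ≫ q = 𝟙 _)
    (hss : SS k ((Scheme.Modules.pullback (ip X q c₀ hc₀)).obj F))
    (hsimple : Simple k ((Scheme.Modules.pullback (ip X q c₀ hc₀)).obj F))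
    (hst : letI := fibOver (pullback.snd (X ↘ Spec (CommRingCat.of k)) q) (genericPoint T)
      letI := (nc hdim q _ (isPullback_fiber (pullback.snd (X ↘ Spec (CommRingCat.of k)) q) (genericPoint T))).int
      SS (T.residueField (genericPoint T))
        (CohIII.fiberMod (pullback.snd (X ↘ Spec (CommRingCat.of k)) q) F (genericPoint T)) →
      St (T.residueField (genericPoint T))
        (CohIII.fiberMod (pullback.snd (X ↘ Spec (CommRingCat.of k)) q) F (genericPoint T))) :
    ∃ (c : Spec (CommRingCat.of k) ⟶ T) (hc : c ≫ q = 𝟙 _),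
      St k ((Scheme.Modules.pullback (ip X q c hc)).obj F) := by
  have : IsLocallyNoetherian T := LocallyOfFiniteType.isLocallyNoetherian q
  have : IsNoetherian T := {}
  obtain ⟨D⟩ := exists_setup hdim q hr hF
  have hFc := isCoh_of_rank hF
  have hLi := RelAmp.isInvertible D.hL
  have hamp := RelAmp.fAmple D.hL
  have h1 := ss_gen hdim q hr hF c₀ (ip X q c₀ hc₀) (isPullback_ip X q c₀ hc₀) hss
  have h2 := simple_gen hdim q hr hF c₀ hc₀ hsimple
  let o := fibOver (pullback.snd (X ↘ Spec (CommRingCat.of k)) q) (genericPoint T)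
  obtain ⟨g1, g2, g3'⟩ := nc (K := T.residueField (genericPoint T)) hdim q _
    (isPullback_fiber (pullback.snd (X ↘ Spec (CommRingCat.of k)) q) (genericPoint T))
  have g3 : Crv (T.residueField (genericPoint T))
    ((pullback.snd (X ↘ Spec (CommRingCat.of k)) q).fiber (genericPoint T)) := g3'
  have g2' : IsProper ((pullback.snd (X ↘ Spec (CommRingCat.of k)) q).fiber (genericPoint T) ↘
    Spec (CommRingCat.of (T.residueField (genericPoint T)))) := g2
  have h3 := hst h1
  have h4 : ShStab.IsGeomStable (T.residueField (genericPoint T))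
      ((pullback.snd (X ↘ Spec (CommRingCat.of k)) q).fiber (genericPoint T))
      (CohIII.fiberMod (pullback.snd (X ↘ Spec (CommRingCat.of k)) q) D.L (genericPoint T))
      (CohIII.fiberMod (pullback.snd (X ↘ Spec (CommRingCat.of k)) q) F (genericPoint T)) 1 := by
    have hLη := isAmple_fiber (pullback.snd (X ↘ Spec (CommRingCat.of k)) q) hamp (genericPoint T)
    have hFr : FlatMod.IsFinLocFreeOfRank r
        (CohIII.fiberMod (pullback.snd (X ↘ Spec (CommRingCat.of k)) q) F (genericPoint T)) :=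
      Groth.Agent.PerfB.FibreConc.isFinLocFreeOfRank_pullback _ hF
    exact isGeomStable_of (K := T.residueField (genericPoint T)) g3 hLη (isFinLocFree_of_rank hFr)
      (by rw [rk_of_rank hFr]; omega) h3 h2
  have h5 := (OpenPt.isGeomStable_iff _ hLi hamp hFc (genericPoint T) (D.hP _) D.hd D.h0).1 h4
  have h6 := OpenPt.isOpen_of_bad (pullback.snd (X ↘ Spec (CommRingCat.of k)) q) D.hL hFc ⊤
    (fun s _ => D.hP s) D.hd D.h0 (badSet_st D.hd D.h0)
  have : JacobsonSpace T := LocallyOfFiniteType.jacobsonSpace q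
  obtain ⟨s, ⟨-, hs⟩, hsc⟩ : ({s : T | s ∈ (⊤ : T.Opens) ∧ s ∉ Z (pullback.snd (X ↘ Spec (CommRingCat.of k)) q) D.L F
      (fun Q => Bst 1 D.P (D.P - Q))} ∩ closedPoints T).Nonempty := by
    exact nonempty_inter_closedPoints ⟨genericPoint T, ⟨trivial, h5⟩⟩ h6.isLocallyClosed
  refine ⟨pointOfClosedPoint q s hsc, pointOfClosedPoint_comp q s hsc, ?_⟩
  refine (pt_st (K := k) hdim q hr hF D (pointOfClosedPoint q s hsc) _ (isPullback_ip X q _ _)).2 fun hq => ?_
  have h7 := mem_Z_of_isPullback _ hLi F (isPullback_ip X q _ (pointOfClosedPoint_comp q s hsc)) hq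
    (IsLocalRing.closedPoint k)
  rw [pointOfClosedPoint_apply] at h7
  exact hs h7

omit [LocallyOfFiniteType q] [IsIntegral T] [CompactSpace T] in
/-- Stability descends along extensions of fields. -/
theorem st_of_ext [IsLocallyNoetherian T] (D : Setup q F) {K K' : Type u} [Field K] [Field K'] [Algebra K K']
    {t : Spec (CommRingCat.of K) ⟶ T} {t' : Spec (CommRingCat.of K') ⟶ T}
    (ht : t' = Spec.map (CommRingCat.ofHom (algebraMap K K')) ≫ t) {Y Y' : Scheme.{u}}
    [Y.Over (Spec (CommRingCat.of K))] [Y'.Over (Spec (CommRingCat.of K'))]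
    (p : Y ⟶ pullback (X ↘ Spec (CommRingCat.of k)) q)
    (H : IsPullback p (Y ↘ Spec (CommRingCat.of K)) (pullback.snd (X ↘ Spec (CommRingCat.of k)) q) t)
    (p' : Y' ⟶ pullback (X ↘ Spec (CommRingCat.of k)) q)
    (H' : IsPullback p' (Y' ↘ Spec (CommRingCat.of K')) (pullback.snd (X ↘ Spec (CommRingCat.of k)) q) t')
    (hst : letI := (nc hdim q _ H').int
      St K' ((Scheme.Modules.pullback p').obj F)) :
    letI := (nc hdim q _ H).int
    St K ((Scheme.Modules.pullback p).obj F) := by
  refine (pt_st hdim q hr hF D t p H).2 fun hq => ?_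
  exact (pt_st hdim q hr hF D t' p' H').1 hst
    (hasQuot_trans _ (RelAmp.isInvertible D.hL) F ht H H' hq)

/-- Variant of `exists_stable`: the hypothesis on the generic fibre over any extension of its field of definition. -/
theorem exists_stable_of_pt (c₀ : Spec (CommRingCat.of k) ⟶ T) (hc₀ : c₀ ≫ q = 𝟙 _)
    (hss : SS k ((Scheme.Modules.pullback (ip X q c₀ hc₀)).obj F))
    (hsimple : Simple k ((Scheme.Modules.pullback (ip X q c₀ hc₀)).obj F))
    {K : Type u} [Field K] (t : Spec (CommRingCat.of K) ⟶ T)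
    (ht : t (IsLocalRing.closedPoint K) = genericPoint T) {Y : Scheme.{u}}
    [Y.Over (Spec (CommRingCat.of K))] (p : Y ⟶ pullback (X ↘ Spec (CommRingCat.of k)) q)
    (H : IsPullback p (Y ↘ Spec (CommRingCat.of K)) (pullback.snd (X ↘ Spec (CommRingCat.of k)) q) t)
    (hst : letI := (nc hdim q _ H).int
      SS K ((Scheme.Modules.pullback p).obj F) → St K ((Scheme.Modules.pullback p).obj F)) :
    ∃ (c : Spec (CommRingCat.of k) ⟶ T) (hc : c ≫ q = 𝟙 _),
      St k ((Scheme.Modules.pullback (ip X q c hc)).obj F) := by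
  have : IsLocallyNoetherian T := LocallyOfFiniteType.isLocallyNoetherian q
  obtain ⟨D⟩ := exists_setup hdim q hr hF
  refine exists_stable hdim q hr hF c₀ hc₀ hss hsimple fun hη => ?_
  obtain ⟨a, ha⟩ := exists_algebra t (IsLocalRing.closedPoint K) ht
  let o := fibOver (pullback.snd (X ↘ Spec (CommRingCat.of k)) q) (genericPoint T)
  have h1 := (pt_ss (K := T.residueField (genericPoint T)) hdim q hr hF D (T.fromSpecResidueField (genericPoint T)) _
    (isPullback_fiber (pullback.snd (X ↘ Spec (CommRingCat.of k)) q) (genericPoint T))).1 hη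
  have h2 := (SSPt.isSemistable_pt_iff (pullback.snd (X ↘ Spec (CommRingCat.of k)) q) (RelAmp.isInvertible D.hL)
    (RelAmp.fAmple D.hL) (isCoh_of_rank hF) (genericPoint T) (D.hP _) D.hd D.h0 t
    (IsLocalRing.closedPoint K) ht p H).2 h1
  have h3 := hst ((pt_ss hdim q hr hF D t p H).2 h2)
  exact st_of_ext (K := T.residueField (genericPoint T)) (K' := K) hdim q hr hF D ha _
    (isPullback_fiber (pullback.snd (X ↘ Spec (CommRingCat.of k)) q) (genericPoint T)) p H h3

end

end K693.TF
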