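import Groth.Agent.TFCurv.K693.Geo
import Groth.Agent.BunMod.K325.FibLocFree

/-!
# Local freeness of a flat family with locally free fibres at the `k`-points (helper693)
-/

set_option autoImplicit false
universe u
open CategoryTheory CategoryTheory.Limits AlgebraicGeometry Polynomial

namespace K693.TF

open K707.Base K707.Deg K707.Slope K707.Semi K707.TensL Groth.Agent.VarietyA.DegRank
open K846 K846.FieldPt K846.OpenFib

variable {k : Type u} [Field k] [IsAlgClosed k] {X : Scheme.{u}} [X.Over (Spec (CommRingCat.of k))] [IsIntegral X]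
  [IsProper (X ↘ Spec (CommRingCat.of k))] [Smooth (X ↘ Spec (CommRingCat.of k))]
  {T : Scheme.{u}} (q : T ⟶ Spec (CommRingCat.of k)) [LocallyOfFiniteType q] [IsIntegral T]

instance isIntegral_XT : IsIntegral (pullback (X ↘ Spec (CommRingCat.of k)) q) := by
  have hgc : GeometricallyConnected (X ↘ Spec (CommRingCat.of k)) :=
    Groth.Agent.Fdesc.GeomAlgClosed.geometricallyConnected_of_connectedSpace (X ↘ Spec (CommRingCat.of k))
  have h1 : GeometricallyIntegral (X ↘ Spec (CommRingCat.of k)) := K708.Geom.geometricallyIntegral _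
  have : IsLocallyNoetherian T := LocallyOfFiniteType.isLocallyNoetherian q
  infer_instance

/-- A coherent module on `X ×_k T`, flat over `T`, whose fibres at the `k`-points are locally free, is locally free
(of the rank of any of these fibres). -/
theorem isFinLocFreeOfRank_of_fibres {F : (pullback (X ↘ Spec (CommRingCat.of k)) q).Modules} (hF : Coh.IsCoh F)
    (hfl : FlatMod.IsFlatOver (pullback.snd (X ↘ Spec (CommRingCat.of k)) q) F)
    (hv : ∀ (c : Spec (CommRingCat.of k) ⟶ T) (hc : c ≫ q = 𝟙 _),
      FlatMod.IsFinLocFree ((Scheme.Modules.pullback (ip X q c hc)).obj F))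
    (c₀ : Spec (CommRingCat.of k) ⟶ T) (hc₀ : c₀ ≫ q = 𝟙 _) :
    FlatMod.IsFinLocFreeOfRank (rk ((Scheme.Modules.pullback (ip X q c₀ hc₀)).obj F)) F := by
  have : IsLocallyNoetherian T := LocallyOfFiniteType.isLocallyNoetherian q
  have : IsLocallyNoetherian (pullback (X ↘ Spec (CommRingCat.of k)) q) :=
    LocallyOfFiniteType.isLocallyNoetherian (pullback.snd (X ↘ Spec (CommRingCat.of k)) q)
  have : JacobsonSpace T := LocallyOfFiniteType.jacobsonSpace q
  have h1 : FlatMod.IsFinLocFree F := by
    refine K325.FibLocFree.isFinLocFree_of_closed_fibres (pullback.snd (X ↘ Spec (CommRingCat.of k)) q) hF hfl ?_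
    intro s hs
    have hc : pointOfClosedPoint q s hs ≫ q = 𝟙 _ := pointOfClosedPoint_comp q s hs
    obtain ⟨φ, hφ, ha⟩ := exists_residue q (pointOfClosedPoint q s hs) hc (s := s) (pointOfClosedPoint_apply _ _ _ _)
    have H : IsPullback (ip X q (pointOfClosedPoint q s hs) hc) (X ↘ Spec (CommRingCat.of k))
        (pullback.snd (X ↘ Spec (CommRingCat.of k)) q)
        (Spec.map (CommRingCat.ofHom φ) ≫ T.fromSpecResidueField s) := by
      rw [← ha]
      exact isPullback_ip X q _ hc
    let _ : Algebra (T.residueField s) k := φ.toAlgebra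
    obtain ⟨g, hg, Hg⟩ := exists_square (K := T.residueField s) (K' := k) _
      (isPullback_fiber (pullback.snd (X ↘ Spec (CommRingCat.of k)) q) s) H
    have h1 : IsIso (Spec.map (CommRingCat.ofHom φ)) := by
      have : IsIso (CommRingCat.ofHom φ) := by
        rw [ConcreteCategory.isIso_iff_bijective]
        exact ⟨φ.injective, hφ⟩
      infer_instance
    have h2 : IsIso g := MorphismProperty.of_isPullback (P := MorphismProperty.isomorphisms _) Hg.flip h1
    have h3 : inv g ≫ ip X q (pointOfClosedPoint q s hs) hc =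
        (pullback.snd (X ↘ Spec (CommRingCat.of k)) q).fiberι s := by
      rw [← hg, IsIso.inv_hom_id_assoc]
    have h4 := isFinLocFreeOfRank_rk (hv (pointOfClosedPoint q s hs) hc)
    have h5 := isFinLocFree_of_rank (Groth.Agent.PerfB.FibreConc.isFinLocFreeOfRank_pullback (inv g) h4)
    exact Groth.Agent.Sga67.LocBasis.isFinLocFree_of_iso ((Scheme.Modules.pullbackComp _ _).app F ≪≫
      (Scheme.Modules.pullbackCongr h3).app F) h5
  have h2 := isFinLocFreeOfRank_rk h1
  have h3 := rk_of_rank (Groth.Agent.PerfB.FibreConc.isFinLocFreeOfRank_pullback (ip X q c₀ hc₀) h2)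
  rw [h3]
  exact h2

end K693.TF
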