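import Groth.Agent.ShStab.K846.SSOpen
import Groth.Agent.ShStab.K846.Ascent3
import Groth.Agent.TFCurv.K334.StabGies
import Groth.Agent.CurvesB.BCNat
import Groth.Agent.Fdesc.StalkExt

/-!
# Stability on curves: slope and Gieseker; simple modules and isomorphisms (helper693)

* `st_of_isStable`: Gieseker-stable vector bundles on curves are slope-stable;
* `isStable_iff_hasQuot`: stability in terms of quotients;
* `Simple k M`: all endomorphisms of `M` are scalars; `Simple.of_isPullback`: descent along an isomorphism of fields.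
-/

set_option autoImplicit false
universe u
open CategoryTheory CategoryTheory.Limits AlgebraicGeometry Polynomial

namespace K693.TF

open K707.Base K707.Deg K707.Slope K707.Semi K707.TensL Groth.Agent.VarietyA.DegRank StabCat K846 K846.CurveSS

section Curve

variable {k : Type u} [Field k] {X : Scheme.{u}} [X.Over (Spec (CommRingCat.of k))] [IsIntegral X]
  [IsProper (X ↘ (Spec (CommRingCat.of k)))] (C : Crv k X)

include C

theorem lt_of_redLT {L M N : X.Modules} (hL : CohB1.IsAmple L)
    (h : RedLT 1 (hpol k L M) (hpol k L N)) : dg k M * rk N < dg k N * rk M := by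
  have he : (0 : ℚ) < dg k L := by exact_mod_cast dg_pos k C.dim hL
  obtain ⟨m, hm⟩ := h
  have h1 := hm m le_rfl
  rw [alpha_hpol, alpha_hpol, eval_smul, eval_smul, eval_hpol, eval_hpol, smul_eq_mul, smul_eq_mul] at h1
  rw [← sub_pos] at h1
  have e : (rk M : ℚ) * dg k L * ((rk N : ℚ) * dg k L * m + ((dg k N : ℚ) + rk N *
      Curv2.euler k X (Coh.structureModule X))) - (rk N : ℚ) * dg k L * ((rk M : ℚ) * dg k L * m +
      ((dg k M : ℚ) + rk M * Curv2.euler k X (Coh.structureModule X))) =
      dg k L * ((dg k N * rk M : ℤ) - (dg k M * rk N : ℤ)) := by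
    push_cast
    ring
  rw [e, mul_pos_iff_of_pos_left he, sub_pos] at h1
  exact_mod_cast h1

/-- A Gieseker-stable vector bundle is slope-stable. -/
theorem st_of_isStable {L E : X.Modules} (hL : CohB1.IsAmple L) (hE : FlatMod.IsFinLocFree E)
    (h : ShStab.IsStable k X L E 1) : St k E := by
  have hEc := coh_of_vb hE
  intro F i hi hF h0 h1
  have hFc := coh_of_vb hF
  refine lt_of_redLT C hL (h.2.2.2 F i hi hFc (fun hz => ?_) (fun hiso => ?_) _ _
    (isHilbPoly k C.dim hL.1 hFc) (isHilbPoly k C.dim hL.1 hEc))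
  · rw [rk_of_isZero hz] at h0
    exact lt_irrefl _ h0
  · rw [rk_iso (asIso i)] at h1
    exact lt_irrefl _ h1

/-- Slope-stability of vector bundles is Gieseker-stability. -/
theorem isStable_iff {L E : X.Modules} (hL : CohB1.IsAmple L) (hE : FlatMod.IsFinLocFree E) (hr : 0 < rk E) :
    ShStab.IsStable k X L E 1 ↔ St k E :=
  ⟨st_of_isStable C hL hE, K334.StabGies.isStable C hL hE hr⟩

end Curve

open K849.PolyOrd BadPoly FieldPt OpenMain OpenFib Localize OpenPt

/-- Stability in terms of quotients. -/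
theorem isStable_iff_hasQuot {K : Type u} [Field K] {Y : Scheme.{u}} [Y.Over (Spec (CommRingCat.of K))]
    [IsProper (Y ↘ Spec (CommRingCat.of K))] {L F : Y.Modules} (hL : CohB1.IsAmple L) (hF : Coh.IsCoh F)
    {P : Polynomial ℚ} (hP : ShStab.IsHilbPoly K Y L F P) {d : ℕ} (hd : P.natDegree ≤ d) (h0 : 0 < alpha d P) :
    ShStab.IsStable K Y L F d ↔
      ¬ HasQuot K (Y ↘ Spec (CommRingCat.of K)) L F (fun Q => Bst d P (P - Q)) := by
  have := Ascent.isLocallyNoetherian_of_proper K Y
  have H := Facts.hilbFacts K hL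
  have hp := Gies.hp_eq hP
  have h1 := Bad.isStable_iff_bad H (E := F) (d := d) ⟨hF, by rw [hp]; exact hd⟩ (by rw [hp]; exact h0)
  have h2 := hasQuot_iff (K := K) hL hF (Bst d P)
  rw [hp] at h1 h2
  rw [h1, h2]
  push Not
  rfl

section Simple

/-- Every endomorphism is a scalar. -/
def Simple (k : Type u) [Field k] {X : Scheme.{u}} [X.Over (Spec (CommRingCat.of k))] (M : X.Modules) : Prop :=
  ∀ φ : M ⟶ M, ∃ c : k, φ = Formal.smulMod k M c

theorem smulMod_nat {k : Type u} [Field k] {X : Scheme.{u}} [X.Over (Spec (CommRingCat.of k))] {M N : X.Modules}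
    (f : M ⟶ N) (c : k) : Formal.smulMod k M c ≫ f = f ≫ Formal.smulMod k N c := by
  apply Scheme.Modules.hom_ext
  intro U
  ext m
  exact (f.val.app (Opposite.op U)).hom.map_smul _ _

theorem Simple.of_iso {k : Type u} [Field k] {X : Scheme.{u}} [X.Over (Spec (CommRingCat.of k))] {M N : X.Modules}
    (h : Simple k M) (e : M ≅ N) : Simple k N := by
  intro φ
  obtain ⟨c, hc⟩ := h (e.hom ≫ φ ≫ e.inv)
  refine ⟨c, ?_⟩
  rw [← cancel_epi e.hom, ← cancel_mono e.inv, Category.assoc, hc, ← smulMod_nat, Category.assoc, e.hom_inv_id,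
    Category.comp_id]

/-- Descent of simplicity along an isomorphism of fields. -/
theorem Simple.of_isPullback {k K : Type u} [Field k] [Field K] (φ : k →+* K) (hφ : Function.Surjective φ)
    {X Y : Scheme.{u}} [X.Over (Spec (CommRingCat.of k))] [Y.Over (Spec (CommRingCat.of K))] (g : Y ⟶ X)
    (H : IsPullback g (Y ↘ Spec (CommRingCat.of K)) (X ↘ Spec (CommRingCat.of k))
      (Spec.map (CommRingCat.ofHom φ))) {M : X.Modules}
    (h : Simple K ((Scheme.Modules.pullback g).obj M)) : Simple k M := by
  have h1 : IsIso (Spec.map (CommRingCat.ofHom φ)) := by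
    have : IsIso (CommRingCat.ofHom φ) := by
      rw [ConcreteCategory.isIso_iff_bijective]
      exact ⟨φ.injective, hφ⟩
    infer_instance
  have h2 : IsIso g := MorphismProperty.of_isPullback (P := MorphismProperty.isomorphisms _) H.flip h1
  have h3 : (Scheme.Modules.pullback g).Faithful := Groth.Agent.Fdesc.StalkExt.faithful_pullback g
  intro ψ
  obtain ⟨c, hc⟩ := h ((Scheme.Modules.pullback g).map ψ)
  obtain ⟨c', rfl⟩ := hφ c
  refine ⟨c', (Scheme.Modules.pullback g).map_injective ?_⟩
  rw [hc]
  exact (Groth.Agent.CurvesB.BCNat.pullback_smulMod φ g H M c').symm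

/-- A stable simple vector bundle on a curve is geometrically stable. -/
theorem isGeomStable_of {K : Type u} [Field K] {Y : Scheme.{u}} [Y.Over (Spec (CommRingCat.of K))] [IsIntegral Y]
    [IsProper (Y ↘ Spec (CommRingCat.of K))] (C : Crv K Y) {L F : Y.Modules} (hL : CohB1.IsAmple L)
    (hF : FlatMod.IsFinLocFree F) (hr : 0 < rk F) (hst : St K F) (hs : Simple K F) :
    ShStab.IsGeomStable K Y L F 1 := by
  intro K' _ _
  exact K846.Ascent3.isStable_bc (k := K)
    (fun k _ X _ _ L hL => K846.Facts.hilbFacts k hL) hL K' (K334.StabGies.isStable C hL hF hr hst) hs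

end Simple

end K693.TF
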